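import Mathlib

set_option autoImplicit false

/-! Tools about subgroups of odd index and about subgroups of `Sₙ` containing `Aₙ`, used for the
question when a Sylow 2-subgroup lies in a unique maximal subgroup. -/

namespace Cfsg.Agent.SylowMax

open Equiv Equiv.Perm MulAction
open scoped Pointwise

/-- A Sylow subgroup is contained in a conjugate of any subgroup of index prime to `p`. -/
theorem exists_le_map_conj {G : Type*} [Group G] [Finite G] {p : ℕ} [Fact p.Prime] (R : Sylow p G)
    (H : Subgroup G) (hH : ¬ p ∣ H.index) :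
    ∃ g : G, (R : Subgroup G) ≤ H.map (MulAut.conj g).toMonoidHom := by
  obtain ⟨x, hx⟩ := R.2.nonempty_fixed_point_of_prime_not_dvd_card (G ⧸ H) hH
  obtain ⟨g, rfl⟩ := QuotientGroup.mk_surjective x
  refine ⟨g, fun r hr => ⟨g⁻¹ * r * g, ?_, by simp [mul_assoc]⟩⟩
  have h := hx ⟨r, hr⟩
  change (QuotientGroup.mk (r * g) : G ⧸ H) = QuotientGroup.mk g at h
  rw [QuotientGroup.eq] at h
  have := inv_mem h
  simpa [mul_assoc] using this

theorem ne_top_map {G G' : Type*} [Group G] [Group G'] (e : G ≃* G') {H : Subgroup G} (h : H ≠ ⊤) :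
    H.map e.toMonoidHom ≠ ⊤ := fun h' => h (by
  apply Subgroup.map_injective (f := e.toMonoidHom) e.injective
  rw [h', Subgroup.map_top_of_surjective _ e.surjective])

theorem isCoatom_map {G G' : Type*} [Group G] [Group G'] (e : G ≃* G') {H : Subgroup G}
    (h : IsCoatom H) : IsCoatom (H.map e.toMonoidHom) :=
  (e.mapSubgroup.isCoatom_iff H).mpr h

/-- If exactly one maximal subgroup contains a Sylow subgroup, every proper subgroup of index prime
to `p` is conjugate into it. -/
theorem conj_le_of_unique {G : Type*} [Group G] [Finite G] {p : ℕ} [Fact p.Prime] (R : Sylow p G)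
    (hu : ∃! M : Subgroup G, IsCoatom M ∧ (R : Subgroup G) ≤ M) :
    ∃ M : Subgroup G, IsCoatom M ∧ ¬ p ∣ M.index ∧
      ∀ H : Subgroup G, H ≠ ⊤ → ¬ p ∣ H.index → ∃ g : G, H.map (MulAut.conj g).toMonoidHom ≤ M := by
  obtain ⟨M, ⟨hM, hRM⟩, huniq⟩ := hu
  refine ⟨M, hM, fun h => R.not_dvd_index (h.trans (Subgroup.index_dvd_of_le hRM)), fun H hH hi => ?_⟩
  obtain ⟨g, hg⟩ := exists_le_map_conj R H hi
  refine ⟨g, ?_⟩
  obtain h | ⟨M', hM', hle⟩ := eq_top_or_exists_le_coatom (H.map (MulAut.conj g).toMonoidHom)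
  · exact absurd h (ne_top_map _ hH)
  · rw [← huniq M' ⟨hM', hg.trans hle⟩]; exact hle

/-- Transport of the statement "the Sylow subgroups lie in a unique maximal subgroup". -/
theorem unique_iff_of_equiv {G G' : Type*} [Group G] [Group G'] (e : G ≃* G') (R : Subgroup G) :
    (∃! M : Subgroup G', IsCoatom M ∧ R.map e.toMonoidHom ≤ M) ↔
      (∃! M : Subgroup G, IsCoatom M ∧ R ≤ M) := by
  refine (Equiv.existsUnique_congr e.mapSubgroup.toEquiv ?_).symm
  intro M
  change _ ↔ IsCoatom (e.mapSubgroup M) ∧ e.mapSubgroup R ≤ e.mapSubgroup M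
  rw [e.mapSubgroup.isCoatom_iff, e.mapSubgroup.le_iff_le]

variable {n : ℕ} (G : Subgroup (Perm (Fin n)))

theorem index_dvd_two (hn : 2 ≤ n) (hA : alternatingGroup (Fin n) ≤ G) : G.index ∣ 2 := by
  have : Nontrivial (Fin n) := Fin.nontrivial_iff_two_le.mpr hn
  have := Subgroup.index_dvd_of_le hA
  rwa [alternatingGroup.index_eq_two] at this

theorem eq_top_or_eq_alternating (hn : 2 ≤ n) (hA : alternatingGroup (Fin n) ≤ G) :
    G = ⊤ ∨ G = alternatingGroup (Fin n) := by
  rcases (Nat.dvd_prime Nat.prime_two).mp (index_dvd_two G hn hA) with h | h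
  · exact Or.inl (Subgroup.index_eq_one.mp h)
  · exact Or.inr (eq_alternatingGroup_of_index_eq_two h)

/-- The index inside `G ≥ Aₙ` of a subgroup of odd index in `Sₙ` is the same. -/
theorem relIndex_of_odd_index (hn : 2 ≤ n) (hA : alternatingGroup (Fin n) ≤ G)
    (H : Subgroup (Perm (Fin n))) (hH : ¬ 2 ∣ H.index) : H.relIndex G = H.index := by
  rcases eq_top_or_eq_alternating G hn hA with rfl | rfl
  · exact Subgroup.relIndex_top_right H
  · have : Nontrivial (Fin n) := Fin.nontrivial_iff_two_le.mpr hn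
    set A := alternatingGroup (Fin n) with hAdef
    have h1 : H.relIndex A * A.index = (H ⊓ A).index := by
      rw [← Subgroup.inf_relIndex_right, Subgroup.relIndex_mul_index inf_le_right]
    have h2 : A.relIndex H * H.index = (A ⊓ H).index := by
      rw [← Subgroup.inf_relIndex_right, Subgroup.relIndex_mul_index inf_le_right]
    rw [inf_comm, ← h1, hAdef, alternatingGroup.index_eq_two] at h2
    rcases (Nat.dvd_prime Nat.prime_two).mp
      (alternatingGroup.index_eq_two (α := Fin n) ▸
        Subgroup.relIndex_dvd_index_of_normal A H) with h | h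
    · rw [h, one_mul] at h2
      exact absurd ⟨_, h2.trans (mul_comm _ _)⟩ hH
    · rw [h] at h2
      exact (Nat.eq_of_mul_eq_mul_left two_pos (h2.trans (mul_comm _ _))).symm

/-- A subgroup of odd index containing `Aₙ` is everything. -/
theorem eq_top_of_alternating_le (hn : 2 ≤ n) (hA : alternatingGroup (Fin n) ≤ G) (M : Subgroup G)
    (hM : ¬ 2 ∣ M.index) (h : alternatingGroup (Fin n) ≤ M.map G.subtype) : M = ⊤ := by
  have hle : (alternatingGroup (Fin n)).subgroupOf G ≤ M := fun x hx => by
    obtain ⟨y, hy, hyx⟩ := h hx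
    rwa [show x = y from Subtype.ext hyx.symm]
  have hd : M.index ∣ 2 := by
    refine (Subgroup.index_dvd_of_le hle).trans ?_
    have h2 := index_dvd_two (alternatingGroup (Fin n)) hn le_rfl
    exact (Subgroup.relIndex_dvd_index_of_normal _ G).trans h2
  rcases (Nat.dvd_prime Nat.prime_two).mp hd with h1 | h1
  · exact Subgroup.index_eq_one.mp h1
  · exact absurd (h1 ▸ dvd_rfl) hM

/-- Two point transitivity of any group containing the alternating group. -/
theorem exists_smul_pair (hn : 4 ≤ n) (hA : alternatingGroup (Fin n) ≤ G) {a b c d : Fin n}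
    (hab : a ≠ b) (hcd : c ≠ d) : ∃ g : G, g • a = c ∧ g • b = d := by
  have h := alternatingGroup.isMultiplyPretransitive (Fin n)
  have h2 : IsMultiplyPretransitive (alternatingGroup (Fin n)) (Fin n) 2 :=
    isMultiplyPretransitive_of_le (n := Nat.card (Fin n) - 2) (by simp; omega) (by simp)
  obtain ⟨g, hg1, hg2⟩ := is_two_pretransitive_iff.mp h2 hab hcd
  exact ⟨⟨g.1, hA g.2⟩, hg1, hg2⟩

/-- Set stabilizers are maximal, except for half-sized sets. -/
theorem isCoatom_stab (hn : 5 ≤ n) (hA : alternatingGroup (Fin n) ≤ G) (s : Set (Fin n))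
    (h0 : s.Nonempty) (h1 : sᶜ.Nonempty) (h2 : n ≠ 2 * s.ncard) :
    IsCoatom (stabilizer G s) := by
  rcases eq_top_or_eq_alternating G (by omega) hA with rfl | rfl
  · have h := isCoatom_map (Subgroup.topEquiv (G := Perm (Fin n))).symm
      (Equiv.Perm.isCoatom_stabilizer h0 h1 (by simpa using h2))
    convert h using 1
    ext x
    constructor
    · exact fun hx => ⟨x.1, hx, Subtype.ext rfl⟩
    · rintro ⟨y, hy, rfl⟩
      exact hy
  · exact alternatingGroup.isCoatom_stabilizer h0 h1 (by simpa using h2)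

/-- `Aₙ` contains every product of two transpositions. -/
theorem swap_mul_swap_mem {a b c d : Fin n} (hab : a ≠ b) (hcd : c ≠ d) :
    swap a b * swap c d ∈ alternatingGroup (Fin n) := by
  rw [mem_alternatingGroup, map_mul, sign_swap hab, sign_swap hcd, Int.units_mul_self]

/-- The commutator of two permutations whose supports meet in one point is a 3-cycle. -/
theorem isThreeCycle_commutator {x y : Perm (Fin n)} {u : Fin n} (hx : x u ≠ u) (hy : y u ≠ u)
    (h : ∀ z, z ≠ u → x z = z ∨ y z = z) : IsThreeCycle (x * y * x⁻¹ * y⁻¹) := by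
  set w := x * y * x⁻¹ * y⁻¹ with hw
  have hxi : ∀ z, x z = z → x⁻¹ z = z := fun z hz => by rw [inv_eq_iff_eq]; exact hz.symm
  have hyi : ∀ z, y z = z → y⁻¹ z = z := fun z hz => by rw [inv_eq_iff_eq]; exact hz.symm
  have hwz : ∀ z, w z = x (y (x⁻¹ (y⁻¹ z))) := fun z => rfl
  have hwu : w u ≠ u := by
    have h1 : y⁻¹ u ≠ u := fun e => hy (inv_eq_iff_eq.mp e).symm
    have h2 : y (y⁻¹ u) ≠ y⁻¹ u := fun e => h1 (by simpa using e.symm)
    have h3 := hxi _ ((h _ h1).resolve_right h2)
    rw [hwz, h3, ← Perm.mul_apply y, mul_inv_cancel, one_apply]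
    exact hx
  have hsub : w.support ⊆ {u, x u, y u} := by
    intro z hz
    rw [mem_support] at hz
    by_contra hne
    simp only [Finset.mem_insert, Finset.mem_singleton, not_or] at hne
    obtain ⟨z0, z1, z2⟩ := hne
    apply hz
    by_cases hyz : y z = z
    · by_cases hxz : x z = z
      · rw [hwz, hyi z hyz, hxi z hxz, hyz, hxz]
      · have h1 : x⁻¹ z ≠ u := fun e => z1 (inv_eq_iff_eq.mp e)
        have h2 : x (x⁻¹ z) ≠ x⁻¹ z := fun e => hxz (by
          have e' : z = x⁻¹ z := by simpa using e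
          have := inv_eq_iff_eq.mp e'.symm
          exact this.symm)
        have h3 := (h _ h1).resolve_left h2
        rw [hwz, hyi z hyz, h3, ← Perm.mul_apply x, mul_inv_cancel, one_apply]
    · have hxz : x z = z := (h z z0).resolve_right hyz
      have h1 : y⁻¹ z ≠ u := fun e => z2 (inv_eq_iff_eq.mp e)
      have h2 : y (y⁻¹ z) ≠ y⁻¹ z := fun e => hyz (by
        have e' : z = y⁻¹ z := by simpa using e
        have := inv_eq_iff_eq.mp e'.symm
        exact this.symm)
      have h3 := hxi _ ((h _ h1).resolve_right h2)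
      rw [hwz, h3, ← Perm.mul_apply y, mul_inv_cancel, one_apply, hxz]
  have hle : w.support.card ≤ 3 := (Finset.card_le_card hsub).trans Finset.card_le_three
  have hne1 : w.support.card ≠ 1 := Equiv.Perm.card_support_ne_one _
  have hne2 : w.support.card ≠ 2 := fun h2 => by
    have h' := (card_support_eq_two.mp h2).sign_eq
    have h1 : Perm.sign w = 1 := by
      rw [hw, map_mul, map_mul, map_mul, map_inv, map_inv, mul_inv_cancel_comm, mul_inv_cancel]
    rw [h1] at h'
    exact absurd h' (by decide)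
  have hne0 : w.support.card ≠ 0 := by
    rw [Ne, Finset.card_eq_zero, support_eq_empty_iff]
    intro h0
    exact hwu (by rw [h0]; rfl)
  exact card_support_eq_three_iff.mp (by omega)

/-- A primitive subgroup of `G ≥ Aₙ` containing a 3-cycle and of odd index is everything. -/
theorem eq_top_of_threeCycle (hn : 5 ≤ n) (hA : alternatingGroup (Fin n) ≤ G) (M : Subgroup G)
    (hM : ¬ 2 ∣ M.index) (hp : IsPreprimitive (M.map G.subtype) (Fin n))
    {g : Perm (Fin n)} (hg : g ∈ M.map G.subtype) (h3 : g.IsThreeCycle) : M = ⊤ :=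
  eq_top_of_alternating_le G (by omega) hA M hM
    (alternatingGroup_le_of_isPreprimitive_of_isThreeCycle_mem hp h3 hg)

end Cfsg.Agent.SylowMax
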