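import Cfsg.Agent.Lib.SylowMax.Basic

set_option autoImplicit false

/-! If `n` is not `2 ^ k + 1` a Sylow 2-subgroup lies in several maximal subgroups. -/

namespace Cfsg.Agent.SylowMax

open Equiv Equiv.Perm MulAction
open scoped Pointwise

/-- Binomial coefficients at the top binary digit are odd. -/
theorem odd_choose_top {n i : ℕ} (h1 : 2 ^ i ≤ n) (h2 : n < 2 ^ (i + 1)) : ¬ 2 ∣ n.choose (2 ^ i) := by
  intro hdvd
  have h := Nat.Prime.factorization_pos_of_dvd Nat.prime_two (Nat.choose_pos h1).ne' hdvd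
  rw [Nat.factorization_choose Nat.prime_two h1 (Nat.lt_succ_of_le (Nat.log_le_self 2 n)),
    Finset.card_pos] at h
  obtain ⟨j, hj⟩ := h
  rw [Finset.mem_filter] at hj
  rcases le_or_gt j i with hji | hji
  · have : 2 ^ i % 2 ^ j = 0 := Nat.mod_eq_zero_of_dvd (pow_dvd_pow 2 hji)
    have := Nat.mod_lt (n - 2 ^ i) (show 0 < 2 ^ j from Nat.two_pow_pos j)
    omega
  · have := Nat.pow_le_pow_right two_pos (show i + 1 ≤ j from hji)
    have := Nat.mod_le (2 ^ i) (2 ^ j)
    have := Nat.mod_le (n - 2 ^ i) (2 ^ j)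
    omega

theorem odd_doubleFactorial (j : ℕ) : ¬ 2 ∣ Nat.doubleFactorial (2 * j + 1) := by
  induction j with
  | zero => simp
  | succ j ih =>
    rw [show 2 * (j + 1) + 1 = (2 * j + 1) + 2 from by ring, Nat.doubleFactorial_add_two]
    intro h
    rcases (Nat.Prime.dvd_mul Nat.prime_two).mp h with h | h
    · omega
    · exact ih h

theorem index_stabilizer_set {n : ℕ} (s : Set (Fin n)) :
    (stabilizer (Perm (Fin n)) s).index = n.choose s.ncard := by
  classical
  rw [MulAction.index_stabilizer]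
  have : orbit (Perm (Fin n)) s =
      (fun t : Finset (Fin n) => (t : Set (Fin n))) '' ↑((Finset.univ : Finset (Fin n)).powersetCard s.ncard) := by
    ext t
    simp only [Set.mem_image, Finset.mem_coe, Finset.mem_powersetCard_univ]
    constructor
    · rintro ⟨g, rfl⟩
      refine ⟨(g • s).toFinite.toFinset, ?_, Set.Finite.coe_toFinset _⟩
      rw [← Set.ncard_eq_toFinset_card _, Set.ncard_smul_set]
    · rintro ⟨t, ht, rfl⟩
      have hcard : Fintype.card s = Fintype.card (t : Set (Fin n)) := by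
        rw [← Nat.card_eq_fintype_card, ← Nat.card_eq_fintype_card, Nat.card_coe_set_eq,
          Nat.card_coe_set_eq, Set.ncard_coe_finset, ht]
      let e : s ≃ (t : Set (Fin n)) := Fintype.equivOfCardEq hcard
      refine ⟨e.extendSubtype, ?_⟩
      have hsub : (e.extendSubtype : Perm (Fin n)) • s ⊆ (t : Set (Fin n)) := by
        rintro _ ⟨x, hx, rfl⟩
        exact Equiv.extendSubtype_mem e x hx
      refine Set.eq_of_subset_of_ncard_le hsub ?_
      rw [Set.ncard_smul_set, Set.ncard_coe_finset, ht]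
  rw [this, Set.ncard_image_of_injective _ Finset.coe_injective, Set.ncard_coe_finset,
    Finset.card_powersetCard, Finset.card_univ, Fintype.card_fin]

/-- A fixed-point-free involution and its centralizer of index `(2m-1)!!`. -/
theorem exists_involution {n m : ℕ} (hn : n = 2 * m) (hm : 2 ≤ m) :
    ∃ τ : Perm (Fin n), (∀ x, τ (τ x) = x) ∧ (∀ x, τ x ≠ x) ∧
      ¬ 2 ∣ (Subgroup.centralizer {τ}).index ∧ (Subgroup.centralizer {τ}).index ≠ 1 := by
  classical
  obtain ⟨τ, hτ⟩ := (exists_with_cycleType_iff (Fin n) (m := Multiset.replicate m 2)).mpr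
    ⟨by simp; omega, fun _ hh => (Multiset.eq_of_mem_replicate hh).ge⟩
  have hsupp : τ.support = Finset.univ := by
    refine Finset.eq_univ_of_card _ ?_
    rw [← sum_cycleType, hτ]; simp; omega
  have hidx : (Subgroup.centralizer {τ}).index = Nat.doubleFactorial (2 * m - 1) := by
    have h := (Subgroup.centralizer {τ}).card_mul_index
    rw [nat_card_centralizer, hτ, Nat.card_perm, Nat.card_fin, Multiset.sum_replicate,
      Multiset.prod_replicate, Fintype.card_fin, Multiset.toFinset_replicate,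
      if_neg (by omega : m ≠ 0), Finset.prod_singleton, Multiset.count_replicate_self] at h
    obtain ⟨j, rfl⟩ : ∃ j, m = j + 1 := ⟨m - 1, by omega⟩
    have hn0 : n - (j + 1) • 2 = 0 := by simp; omega
    rw [hn0, Nat.factorial_zero, one_mul] at h
    have h2 : n.factorial = Nat.doubleFactorial (2 * (j + 1)) * Nat.doubleFactorial (2 * j + 1) := by
      rw [hn]
      exact Nat.factorial_eq_mul_doubleFactorial (2 * j + 1)
    rw [h2, Nat.doubleFactorial_two_mul] at h
    rw [show 2 * (j + 1) - 1 = 2 * j + 1 from by omega]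
    exact Nat.eq_of_mul_eq_mul_left (Nat.mul_pos (Nat.two_pow_pos _) (Nat.factorial_pos _)) h
  refine ⟨τ, fun x => ?_, fun x => mem_support.mp (hsupp ▸ Finset.mem_univ x), ?_, ?_⟩
  · have h : τ ^ 2 = 1 := by
      rw [← orderOf_dvd_iff_pow_eq_one, ← lcm_cycleType, hτ]
      exact Multiset.lcm_dvd.mpr fun b hb => (Multiset.eq_of_mem_replicate hb).dvd
    rw [← Perm.mul_apply, ← pow_two, h, one_apply]
  · rw [hidx, show 2 * m - 1 = 2 * (m - 1) + 1 from by omega]
    exact odd_doubleFactorial _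
  · rw [hidx, show 2 * m - 1 = (2 * (m - 2) + 1) + 2 from by omega, Nat.doubleFactorial_add_two]
    intro h
    have := Nat.eq_one_of_mul_eq_one_right h
    omega

variable {n : ℕ} {τ : Perm (Fin n)}

theorem double_swap_mem_centralizer (hsq : ∀ x, τ (τ x) = x) (u v : Fin n) :
    swap u (τ u) * swap v (τ v) ∈ Subgroup.centralizer {τ} := by
  rw [Subgroup.mem_centralizer_singleton_iff]
  have hc : ∀ w, τ * swap w (τ w) * τ⁻¹ = swap w (τ w) := fun w => by
    rw [← swap_apply_apply, hsq, swap_comm]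
  calc swap u (τ u) * swap v (τ v) * τ
      = τ * swap u (τ u) * τ⁻¹ * (τ * swap v (τ v) * τ⁻¹) * τ := by rw [hc, hc]
    _ = τ * (swap u (τ u) * swap v (τ v)) := by group

theorem pair_swap_mem_centralizer (hsq : ∀ x, τ (τ x) = x) (hfree : ∀ x, τ x ≠ x) {u v : Fin n}
    (huv : u ≠ v) (hv : v ≠ τ u) :
    swap u v * swap (τ u) (τ v) ∈ Subgroup.centralizer {τ} := by
  rw [Subgroup.mem_centralizer_singleton_iff]
  have h1 : τ u ≠ u := hfree u
  have h2 : τ v ≠ v := hfree v
  have h3 : τ v ≠ u := fun h => hv (by rw [← h, hsq])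
  have hcomm : swap (τ u) (τ v) * swap u v = swap u v * swap (τ u) (τ v) := by
    rw [mul_swap_eq_swap_mul (swap u v), swap_apply_of_ne_of_ne h1 hv.symm,
      swap_apply_of_ne_of_ne h3 h2]
  calc swap u v * swap (τ u) (τ v) * τ = swap (τ u) (τ v) * swap u v * τ := by rw [hcomm]
    _ = swap (τ u) (τ v) * swap (τ (τ u)) (τ (τ v)) * τ := by rw [hsq, hsq]
    _ = τ * swap u v * τ⁻¹ * (τ * swap (τ u) (τ v) * τ⁻¹) * τ := by
        have e1 : τ * swap u v * τ⁻¹ = swap (τ u) (τ v) := (swap_apply_apply τ u v).symm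
        have e2 : τ * swap (τ u) (τ v) * τ⁻¹ = swap (τ (τ u)) (τ (τ v)) :=
          (swap_apply_apply τ (τ u) (τ v)).symm
        rw [e1, e2]
    _ = τ * (swap u v * swap (τ u) (τ v)) := by group

theorem exists_not_mem (s : Finset (Fin n)) (h : s.card < n) : ∃ x, x ∉ s := by
  obtain ⟨x, -, hx⟩ := Finset.exists_mem_notMem_of_card_lt_card (s := s) (t := Finset.univ)
    (by simpa using h)
  exact ⟨x, hx⟩

/-- The even centralizer of a fixed-point-free involution is transitive. -/
theorem centralizer_transitive (hn : 5 ≤ n) (hsq : ∀ x, τ (τ x) = x) (hfree : ∀ x, τ x ≠ x)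
    (x y : Fin n) : ∃ k ∈ Subgroup.centralizer {τ}, k ∈ alternatingGroup (Fin n) ∧ k x = y := by
  rcases eq_or_ne y x with rfl | hxy
  · exact ⟨1, one_mem _, one_mem _, rfl⟩
  rcases eq_or_ne y (τ x) with rfl | hyt
  · obtain ⟨z, hz⟩ := exists_not_mem {x, τ x} (Finset.card_le_two.trans_lt (by omega))
    simp only [Finset.mem_insert, Finset.mem_singleton, not_or] at hz
    refine ⟨_, double_swap_mem_centralizer hsq x z,
      swap_mul_swap_mem (hfree x).symm (hfree z).symm, ?_⟩
    rw [Perm.mul_apply, swap_apply_of_ne_of_ne (Ne.symm hz.1) (fun h => hz.2 (by rw [h, hsq])),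
      swap_apply_left]
  · refine ⟨_, pair_swap_mem_centralizer hsq hfree hxy.symm hyt,
      swap_mul_swap_mem hxy.symm (τ.injective.ne hxy.symm), ?_⟩
    rw [Perm.mul_apply, swap_apply_of_ne_of_ne (hfree x).symm (fun h => hyt (by rw [h, hsq])),
      swap_apply_left]

/-- An element of the even centralizer fixing `a` and moving `b` to `c`. -/
theorem centralizer_fix_move (hn : 7 ≤ n) (hsq : ∀ x, τ (τ x) = x) (hfree : ∀ x, τ x ≠ x)
    {a b c : Fin n} (hb : b ≠ a) (hb' : b ≠ τ a) (hc : c ≠ a) (hc' : c ≠ τ a) :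
    ∃ k ∈ Subgroup.centralizer {τ}, k ∈ alternatingGroup (Fin n) ∧ k a = a ∧ k b = c := by
  rcases eq_or_ne c b with rfl | hcb
  · exact ⟨1, one_mem _, one_mem _, rfl, rfl⟩
  have hab' : a ≠ τ b := fun h => hb' (by rw [h, hsq])
  rcases eq_or_ne c (τ b) with rfl | hcb'
  · obtain ⟨z, hz⟩ := exists_not_mem {a, τ a, b, τ b} (Finset.card_le_four.trans_lt (by omega))
    simp only [Finset.mem_insert, Finset.mem_singleton, not_or] at hz
    refine ⟨_, double_swap_mem_centralizer hsq b z,
      swap_mul_swap_mem (hfree b).symm (hfree z).symm, ?_, ?_⟩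
    · rw [Perm.mul_apply, swap_apply_of_ne_of_ne (Ne.symm hz.1) (fun h => hz.2.1 (by rw [h, hsq])),
        swap_apply_of_ne_of_ne hb.symm hab']
    · rw [Perm.mul_apply,
        swap_apply_of_ne_of_ne (Ne.symm hz.2.2.1) (fun h => hz.2.2.2 (by rw [h, hsq])), swap_apply_left]
  · refine ⟨_, pair_swap_mem_centralizer hsq hfree hcb.symm hcb',
      swap_mul_swap_mem hcb.symm (τ.injective.ne hcb.symm), ?_, ?_⟩
    · rw [Perm.mul_apply, swap_apply_of_ne_of_ne hab' (fun h => hc' (by rw [h, hsq])),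
        swap_apply_of_ne_of_ne hb.symm hc.symm]
    · rw [Perm.mul_apply, swap_apply_of_ne_of_ne (hfree b).symm (fun h => hcb' (by rw [h, hsq])),
        swap_apply_left]

theorem swap_smul_set {a b : Fin n} {s : Set (Fin n)} (h : a ∈ s ↔ b ∈ s) : swap a b • s = s := by
  ext x
  rw [Set.mem_smul_set_iff_inv_smul_mem, swap_inv, Perm.smul_def]
  rcases eq_or_ne x a with rfl | hxa
  · rw [swap_apply_left]; exact h.symm
  rcases eq_or_ne x b with rfl | hxb
  · rw [swap_apply_right]; exact h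
  rw [swap_apply_of_ne_of_ne hxa hxb]

/-- The key primitivity statement in the case of a power of two. -/
theorem isPreprimitive_of_halves {m : ℕ} (hn : n = 2 * m) (hm : 4 ≤ m) (N : Subgroup (Perm (Fin n)))
    (s : Set (Fin n)) (hs : s.ncard = m) (hsq : ∀ x, τ (τ x) = x) (hfree : ∀ x, τ x ≠ x)
    (hN1 : ∀ k ∈ alternatingGroup (Fin n), k • s = s → k ∈ N)
    (hN2 : ∀ k ∈ alternatingGroup (Fin n), k ∈ Subgroup.centralizer {τ} → k ∈ N) :
    IsPreprimitive N (Fin n) := by
  classical
  have htr : IsPretransitive N (Fin n) := ⟨fun x y => by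
    obtain ⟨k, hk, hkA, hxy⟩ := centralizer_transitive (by omega) hsq hfree x y
    exact ⟨⟨k, hN2 k hkA hk⟩, hxy⟩⟩
  refine IsPreprimitive.mk fun {B} hB => ?_
  rw [IsTrivialBlock, or_iff_not_imp_left]
  intro hB'
  rw [Set.not_subsingleton_iff] at hB'
  obtain ⟨a, haB⟩ := hB'.nonempty
  obtain ⟨b, hbB, hba⟩ := hB'.exists_ne a
  have hstay : ∀ {k : Perm (Fin n)} {x : Fin n}, k ∈ N → x ∈ B → k x = x → ∀ {y}, y ∈ B → k y ∈ B := by
    intro k x hk hx hkx y hy
    have h := hB.smul_eq_of_mem (g := (⟨k, hk⟩ : N)) hx (show k x ∈ B by rw [hkx]; exact hx)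
    rw [← h]
    exact ⟨y, hy, rfl⟩
  obtain ⟨t, hta, ht, htN⟩ : ∃ t : Set (Fin n), a ∈ t ∧ t.ncard = m ∧
      ∀ k ∈ alternatingGroup (Fin n), k • t = t → k ∈ N := by
    by_cases h : a ∈ s
    · exact ⟨s, h, hs, hN1⟩
    · refine ⟨sᶜ, h, by rw [Set.ncard_compl, hs, Nat.card_fin]; omega, fun k hk hks => hN1 k hk ?_⟩
      rw [Set.smul_set_compl] at hks
      exact compl_injective hks
  have ht' : tᶜ.ncard = m := by rw [Set.ncard_compl, ht, Nat.card_fin]; omega
  have hpick : ∀ (u : Set (Fin n)), u.ncard = m → ∀ x y : Fin n, ∃ d ∈ u, d ≠ x ∧ d ≠ y := by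
    intro u hu x y
    have : ¬ u ⊆ {x, y} := fun h => by
      have h1 := Set.ncard_le_ncard h
      have h2 : ({x, y} : Set (Fin n)).ncard ≤ 2 :=
        (Set.ncard_insert_le _ _).trans (by rw [Set.ncard_singleton])
      omega
    obtain ⟨d, hd, hd'⟩ := Set.not_subset.mp this
    simp only [Set.mem_insert_iff, Set.mem_singleton_iff, not_or] at hd'
    exact ⟨d, hd, hd'⟩
  -- moving `b` inside its side while fixing `a`
  have hside : ∀ c, c ≠ a → (c ∈ t ↔ b ∈ t) → c ∈ B := by
    intro c hca hc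
    rcases eq_or_ne c b with rfl | hcb
    · exact hbB
    obtain ⟨d, hd, hda, -⟩ := hpick (if b ∈ t then tᶜ else t) (by split_ifs <;> assumption) a a
    obtain ⟨e, he, hea, hed⟩ := hpick (if b ∈ t then tᶜ else t) (by split_ifs <;> assumption) a d
    have hdt : ¬ (d ∈ t ↔ b ∈ t) ∧ ¬ (e ∈ t ↔ b ∈ t) := by
      split_ifs at hd he with hbt <;> simp_all
    have hk : swap b c * swap d e ∈ N := htN _ (swap_mul_swap_mem hcb.symm (Ne.symm hed)) (by
      rw [mul_smul, swap_smul_set (show d ∈ t ↔ e ∈ t by tauto), swap_smul_set hc.symm])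
    have := hstay hk haB (by
      rw [Perm.mul_apply, swap_apply_of_ne_of_ne hda.symm hea.symm,
        swap_apply_of_ne_of_ne hba.symm hca.symm]) hbB
    rwa [Perm.mul_apply, swap_apply_of_ne_of_ne (fun h : b = d => hdt.1 (h ▸ Iff.rfl))
      (fun h : b = e => hdt.2 (h ▸ Iff.rfl)), swap_apply_left] at this
  by_contra hne
  have hcard : ¬ n < B.ncard * 2 := fun h => hne (hB.eq_univ_of_card_lt (by rwa [Nat.card_fin]))
  have hbt : b ∈ t := by
    by_contra hbt
    have h1 : insert a tᶜ ⊆ B :=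
      Set.insert_subset haB fun c hc => hside c (fun h => hc (h ▸ hta)) (iff_of_false hc hbt)
    have := Set.ncard_le_ncard h1
    rw [Set.ncard_insert_of_notMem (fun h : a ∈ tᶜ => h hta), ht'] at this
    omega
  have hBt : t = B := by
    refine Set.eq_of_subset_of_ncard_le (fun c hc => ?_) (by omega)
    rcases eq_or_ne c a with rfl | hca
    · exact haB
    · exact hside c hca (iff_of_true hc hbt)
  -- `t` is not a block of the centralizer
  obtain ⟨b', hb', hb'1, hb'2⟩ := hpick t ht a (τ a)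
  obtain ⟨c, hc, hc1, hc2⟩ := hpick tᶜ ht' a (τ a)
  obtain ⟨k, hk, hkA, hka, hkb⟩ := centralizer_fix_move (by omega) hsq hfree hb'1 hb'2 hc1 hc2
  have := hstay (hN2 k hkA hk) haB hka (hBt ▸ hb')
  rw [hkb, ← hBt] at this
  exact hc this

variable (G : Subgroup (Perm (Fin n)))

/-- A conjugate inside a set stabilizer means an invariant set. -/
theorem exists_invariant {H : Subgroup G} {g : G} {s : Set (Fin n)}
    (h : H.map (MulAut.conj g).toMonoidHom ≤ stabilizer G s) :
    ∃ t : Set (Fin n), t.ncard = s.ncard ∧ ∀ x ∈ H, x • t = t := by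
  refine ⟨g⁻¹ • s, Set.ncard_smul_set _ _, fun x hx => ?_⟩
  have h1 : (g * x * g⁻¹) • s = s := h ⟨x, hx, rfl⟩
  calc x • g⁻¹ • s = g⁻¹ • (g * x * g⁻¹) • s := by simp [mul_smul]
    _ = g⁻¹ • s := by rw [h1]

/-- The "only if" direction. -/
theorem not_unique (hA : alternatingGroup (Fin n) ≤ G) (hn : 5 ≤ n) (h6 : n ≠ 6)
    (hne : ∀ k : ℕ, 2 ≤ k → n ≠ 2 ^ k + 1) (R : Sylow 2 G) :
    ¬ ∃! M : Subgroup G, IsCoatom M ∧ (R : Subgroup G) ≤ M := by
  classical
  intro hu
  obtain ⟨M, hM, hModd, hconj⟩ := conj_le_of_unique R hu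
  set i := Nat.log 2 n with hi
  have hle : 2 ^ i ≤ n := Nat.pow_log_le_self 2 (by omega)
  have hlt : n < 2 ^ (i + 1) := Nat.lt_pow_succ_log_self one_lt_two n
  have hi2 : 2 ≤ i := Nat.le_log_of_pow_le one_lt_two (by omega)
  have h4 : 4 ≤ 2 ^ i := (Nat.pow_le_pow_right two_pos hi2).trans' (by norm_num)
  have hp2 : 2 ^ (i + 1) = 2 ^ i * 2 := pow_succ 2 i
  -- subgroups of `Sₙ` of odd index, cut down to `G`
  have hsub : ∀ H : Subgroup (Perm (Fin n)), ¬ 2 ∣ H.index → H.index ≠ 1 →
      ∃ g : G, (H.subgroupOf G).map (MulAut.conj g).toMonoidHom ≤ M := by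
    intro H hodd h1
    have hrel : (H.subgroupOf G).index = H.index := relIndex_of_odd_index G (by omega) hA H hodd
    exact hconj _ (fun h => h1 (by rw [← hrel, h, Subgroup.index_top])) (by rwa [hrel])
  have hset : ∀ k, k ≤ n → ∃ s : Set (Fin n), s.ncard = k := fun k hk => by
    obtain ⟨s, -, hs⟩ := Set.exists_subset_card_eq (s := (Set.univ : Set (Fin n))) (n := k)
      (by rwa [Set.ncard_univ, Nat.card_fin])
    exact ⟨s, hs⟩
  by_cases hpow : n = 2 ^ i
  · -- two block systems
    obtain ⟨j, hj⟩ : ∃ j, i = j + 1 := ⟨i - 1, by omega⟩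
    set m := 2 ^ j with hm
    have hn2 : n = 2 * m := by rw [hpow, hj, pow_succ]; ring
    have hm4 : 4 ≤ m := by
      have : n ≠ 4 := by omega
      have h2 : 2 ≤ j := by
        by_contra h
        have : j = 1 := by omega
        subst this
        simp [hm] at hn2
        omega
      exact (Nat.pow_le_pow_right two_pos h2).trans' (by norm_num)
    obtain ⟨τ, hsq, hfree, hτodd, hτ1⟩ := exists_involution hn2 (by omega)
    obtain ⟨s, hs⟩ := hset m (by omega)
    let P2 : Subgroup (Perm (Fin n)) :=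
      { carrier := {g | g • s = s ∧ g • sᶜ = sᶜ ∨ g • s = sᶜ ∧ g • sᶜ = s}
        one_mem' := Or.inl ⟨one_smul _ _, one_smul _ _⟩
        mul_mem' := by
          rintro a b (⟨a1, a2⟩ | ⟨a1, a2⟩) (⟨b1, b2⟩ | ⟨b1, b2⟩) <;>
            simp only [Set.mem_setOf_eq, mul_smul, b1, b2, a1, a2, and_self, true_or, or_true]
        inv_mem' := by
          rintro a (⟨a1, a2⟩ | ⟨a1, a2⟩) <;>
            simp only [Set.mem_setOf_eq, inv_smul_eq_iff, a1, a2, and_self, true_or, or_true] }
    have hsP : stabilizer (Perm (Fin n)) s ≤ P2 := fun g hg => by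
      have hg' : g • s = s := hg
      exact Or.inl ⟨hg', by rw [Set.smul_set_compl, hg']⟩
    have hscompl : sᶜ.ncard = m := by rw [Set.ncard_compl, hs, Nat.card_fin]; omega
    have hssne : sᶜ ≠ s := fun h => by
      obtain ⟨x, hx⟩ := Set.nonempty_of_ncard_ne_zero (by omega : s.ncard ≠ 0)
      exact (h.symm ▸ hx : x ∈ sᶜ) hx
    obtain ⟨σ, hσ⟩ : ∃ σ : Perm (Fin n), σ • s = sᶜ := by
      have hcard : Fintype.card s = Fintype.card (sᶜ : Set (Fin n)) := by
        rw [← Nat.card_eq_fintype_card, ← Nat.card_eq_fintype_card, Nat.card_coe_set_eq,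
          Nat.card_coe_set_eq, hs, hscompl]
      let e : s ≃ (sᶜ : Set (Fin n)) := Fintype.equivOfCardEq hcard
      refine ⟨e.extendSubtype, Set.eq_of_subset_of_ncard_le ?_ (by rw [Set.ncard_smul_set]; omega)⟩
      rintro _ ⟨x, hx, rfl⟩
      exact Equiv.extendSubtype_mem e x hx
    have hrel2 : (stabilizer (Perm (Fin n)) s).relIndex P2 = 2 := by
      have e : (stabilizer (Perm (Fin n)) s).subgroupOf P2 = stabilizer P2 s := rfl
      rw [Subgroup.relIndex, e, MulAction.index_stabilizer]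
      have : orbit P2 s = {s, sᶜ} := by
        ext t
        constructor
        · rintro ⟨⟨g, hg⟩, rfl⟩
          rcases hg with ⟨h1, -⟩ | ⟨h1, -⟩
          · exact Or.inl h1
          · exact Or.inr h1
        · rintro (rfl | rfl)
          · exact mem_orbit_self _
          · exact ⟨⟨σ, Or.inr ⟨hσ, by rw [Set.smul_set_compl, hσ, compl_compl]⟩⟩, hσ⟩
      rw [this, Set.ncard_pair hssne.symm]
    have hP2idx : P2.index = (2 * m - 1).choose (m - 1) := by
      have h := Subgroup.relIndex_mul_index hsP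
      rw [hrel2, index_stabilizer_set, hs, show n.choose m = (2 * m).choose m from congrArg (Nat.choose · m) hn2] at h
      have hc : (2 * m).choose m = 2 * (2 * m - 1).choose (m - 1) := by
        obtain ⟨r, hr⟩ : ∃ r, m = r + 1 := ⟨m - 1, by omega⟩
        rw [hr, show 2 * (r + 1) = (2 * r + 1) + 1 from by ring, Nat.choose_succ_succ]
        simp only [Nat.add_sub_cancel]
        rw [← Nat.choose_symm_half r]
        ring
      omega
    have hP2odd : ¬ 2 ∣ P2.index := by
      rw [hP2idx]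
      obtain ⟨l, hl⟩ : ∃ l, j = l + 1 := ⟨j - 1, by
        rcases Nat.eq_zero_or_pos j with rfl | h
        · simp [hm] at hm4
        · omega⟩
      have h := odd_choose_top (n := 2 * m - 1) (i := j) (by omega)
        (by rw [pow_succ, ← hm]; omega)
      rwa [← hm, ← Nat.choose_symm (by omega), show 2 * m - 1 - m = m - 1 by omega] at h
    have hP21 : P2.index ≠ 1 := by
      rw [hP2idx]
      have h1 : (2 * m - 1).choose (m - 1) ≥ (m - 1 + 1).choose (m - 1) :=
        Nat.choose_le_choose _ (by omega)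
      rw [Nat.choose_succ_self_right] at h1
      omega
    obtain ⟨g, hg⟩ := hsub P2 hP2odd hP21
    obtain ⟨h, hh⟩ := hsub _ hτodd hτ1
    -- conjugate `M` so that it contains the stabilizer of the halves
    set M' := M.map (MulAut.conj g⁻¹).toMonoidHom with hM'
    have hM'odd : ¬ 2 ∣ M'.index := by
      have e : M'.index = M.index :=
        Subgroup.index_map_of_bijective (f := (MulAut.conj g⁻¹).toMonoidHom)
          (MulAut.conj g⁻¹).bijective M
      rwa [e]
    set c : Perm (Fin n) := ((g⁻¹ * h : G) : Perm (Fin n)) with hc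
    set τ' := c * τ * c⁻¹ with hτ'
    have hsq' : ∀ x, τ' (τ' x) = x := fun x => by simp [hτ', hsq]
    have hfree' : ∀ x, τ' x ≠ x := fun x e => hfree (c⁻¹ x) (by
      have := congrArg (c⁻¹ : Perm (Fin n)) e
      simpa [hτ'] using this)
    have hprim := isPreprimitive_of_halves hn2 hm4 (M'.map G.subtype) s hs hsq' hfree'
      (fun k hk hks => by
        refine ⟨⟨k, hA hk⟩, ⟨g * ⟨k, hA hk⟩ * g⁻¹, hg ⟨⟨k, hA hk⟩, hsP hks, rfl⟩, ?_⟩, rfl⟩
        simp [mul_assoc])
      (fun k hk hkc => by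
        set k₀ : G := (g⁻¹ * h)⁻¹ * ⟨k, hA hk⟩ * (g⁻¹ * h) with hk₀
        have hk₀τ : k₀ ∈ (Subgroup.centralizer {τ}).subgroupOf G := by
          rw [Subgroup.mem_subgroupOf, Subgroup.mem_centralizer_singleton_iff]
          rw [Subgroup.mem_centralizer_singleton_iff] at hkc
          simp only [hk₀, Subgroup.coe_mul, Subgroup.coe_inv, ← hc]
          have e1 : τ = c⁻¹ * τ' * c := by rw [hτ']; group
          calc c⁻¹ * k * c * τ = c⁻¹ * (k * τ') * c := by rw [e1]; group
            _ = c⁻¹ * (τ' * k) * c := by rw [hkc]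
            _ = τ * (c⁻¹ * k * c) := by rw [e1]; group
        refine ⟨⟨k, hA hk⟩, ⟨h * k₀ * h⁻¹, hh ⟨k₀, hk₀τ, rfl⟩, ?_⟩, rfl⟩
        simp [hk₀, mul_assoc])
    obtain ⟨x, hx⟩ := Set.nonempty_of_ncard_ne_zero (by omega : s.ncard ≠ 0)
    obtain ⟨y, hy, hyx⟩ := Set.exists_ne_of_one_lt_ncard (by omega : 1 < s.ncard) x
    obtain ⟨z, hz, hz'⟩ := Set.not_subset.mp (fun h : s ⊆ {x, y} => by
      have := (Set.ncard_le_ncard h).trans ((Set.ncard_insert_le _ _).trans
        (by rw [Set.ncard_singleton]))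
      omega)
    simp only [Set.mem_insert_iff, Set.mem_singleton_iff, not_or] at hz'
    have h3 : IsThreeCycle (swap x y * swap x z) :=
      isThreeCycle_swap_mul_swap_same hyx.symm (Ne.symm hz'.1) (Ne.symm hz'.2)
    have hkA := h3.mem_alternatingGroup
    have hks : (swap x y * swap x z) • s = s := by
      rw [mul_smul, swap_smul_set (iff_of_true hx hz), swap_smul_set (iff_of_true hx hy)]
    have hmem : swap x y * swap x z ∈ M'.map G.subtype := by
      refine ⟨⟨_, hA hkA⟩, ⟨g * ⟨_, hA hkA⟩ * g⁻¹, hg ⟨⟨_, hA hkA⟩, hsP hks, rfl⟩, ?_⟩, rfl⟩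
      simp [mul_assoc]
    have := eq_top_of_threeCycle G hn hA M' hM'odd hprim hmem h3
    exact ne_top_map (MulAut.conj g⁻¹) hM.1 this
  · -- a maximal set stabilizer
    obtain ⟨s, hs⟩ := hset (2 ^ i) hle
    have hsne : s.Nonempty := Set.nonempty_of_ncard_ne_zero (by omega)
    have hscne : sᶜ.Nonempty := Set.nonempty_of_ncard_ne_zero (by
      rw [Set.ncard_compl, hs, Nat.card_fin]; omega)
    have hs2 : n ≠ 2 * s.ncard := by omega
    have hodd : ¬ 2 ∣ (stabilizer (Perm (Fin n)) s).index := by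
      rw [index_stabilizer_set, hs]
      exact odd_choose_top hle hlt
    have hone : (stabilizer (Perm (Fin n)) s).index ≠ 1 := by
      rw [index_stabilizer_set, hs]
      intro h
      rcases Nat.choose_eq_one_iff.mp h with h | h <;> omega
    obtain ⟨g, hg⟩ := hsub _ hodd hone
    have hMeq : M = stabilizer G (g • s) := by
      have e : (stabilizer (Perm (Fin n)) s).subgroupOf G = stabilizer G s := rfl
      rw [e, ← stabilizer_smul_eq_stabilizer_map_conj] at hg
      refine ((isCoatom_stab G hn hA (g • s) (hsne.smul_set) ?_ ?_).le_iff.mp hg).resolve_left hM.1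
      · rw [← Set.smul_set_compl]
        exact hscne.smul_set
      · rwa [Set.ncard_smul_set]
    by_cases hodd_n : 2 ∣ n
    · obtain ⟨m, hm⟩ := hodd_n
      obtain ⟨τ, hsq, hfree, hτodd, hτ1⟩ := exists_involution hm (by omega)
      obtain ⟨h, hh⟩ := hsub _ hτodd hτ1
      rw [hMeq] at hh
      obtain ⟨t, ht, hinv⟩ := exists_invariant G hh
      rw [Set.ncard_smul_set, hs] at ht
      obtain ⟨x, hx⟩ := Set.nonempty_of_ncard_ne_zero (by omega : t.ncard ≠ 0)
      have : t = Set.univ := Set.eq_univ_of_forall fun y => by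
        obtain ⟨k, hk, hkA, hxy⟩ := centralizer_transitive hn hsq hfree x y
        rw [← hinv ⟨k, hA hkA⟩ hk]
        exact ⟨x, hx, hxy⟩
      rw [this, Set.ncard_univ, Nat.card_fin] at ht
      exact hpow ht
    · let z : Fin n := ⟨0, by omega⟩
      have hz : (stabilizer (Perm (Fin n)) ({z} : Set (Fin n))).index = n := by
        rw [index_stabilizer_set, Set.ncard_singleton, Nat.choose_one_right]
      obtain ⟨h, hh⟩ := hsub (stabilizer (Perm (Fin n)) ({z} : Set (Fin n))) (by rwa [hz]) (by omega)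
      rw [hMeq] at hh
      obtain ⟨t, ht, hinv⟩ := exists_invariant G hh
      rw [Set.ncard_smul_set, hs] at ht
      obtain ⟨x, hx, hxz⟩ := Set.exists_ne_of_one_lt_ncard (by omega : 1 < t.ncard) z
      have hsub' : ({z}ᶜ : Set (Fin n)) ⊆ t := fun y hy => by
        obtain ⟨k, h1, h2⟩ := exists_smul_pair G (by omega) hA hxz.symm (Ne.symm hy)
        rw [← hinv k (show k • ({z} : Set (Fin n)) = {z} by rw [Set.smul_set_singleton, h1])]
        exact ⟨x, hx, h2⟩
      have := Set.ncard_le_ncard hsub'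
      rw [Set.ncard_compl, Set.ncard_singleton, Nat.card_fin, ht] at this
      exact hne i hi2 (by omega)

end Cfsg.Agent.SylowMax
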