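import Cfsg.Agent.Lib.SylowMax.Basic

set_option autoImplicit false

/-! For `n = 2 ^ k + 1` the point stabilizer is the only maximal subgroup over a Sylow 2-subgroup. -/

namespace Cfsg.Agent.SylowMax

open Equiv Equiv.Perm MulAction
open scoped Pointwise

variable {n : ℕ} (G : Subgroup (Perm (Fin n)))

theorem sylow_transitive (hA : alternatingGroup (Fin n) ≤ G) {k : ℕ} (hk : 2 ≤ k)
    (hn : n = 2 ^ k + 1) (R : Sylow 2 G) (a : Fin n) (ha : ∀ r ∈ (R : Subgroup G), r • a = a)
    (b c : Fin n) (hb : b ≠ a) (hc : c ≠ a) : ∃ r ∈ (R : Subgroup G), r • b = c := by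
  classical
  have hn4 : 4 ≤ n := by
    have := Nat.pow_le_pow_right two_pos hk
    omega
  have hsub : orbit (R : Subgroup G) b ⊆ {a}ᶜ := by
    rintro _ ⟨r, rfl⟩ h
    apply hb
    have h' : (r : G) • b = a := h
    rw [← inv_smul_smul (r : G) b, h', inv_smul_eq_iff]
    exact (ha r r.2).symm
  have horb : orbit G (a, b) = ↑((Finset.univ : Finset (Fin n)).offDiag) := by
    ext ⟨x, y⟩
    simp only [Finset.coe_offDiag, Finset.coe_univ, Set.mem_offDiag, Set.mem_univ, true_and]
    constructor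
    · rintro ⟨g, hg⟩ hxy
      simp only [Prod.smul_mk, Prod.mk.injEq] at hg
      exact hb (smul_left_cancel g (hg.2.trans (hxy.symm.trans hg.1.symm)))
    · intro hxy
      obtain ⟨g, h1, h2⟩ := exists_smul_pair G hn4 hA hb.symm hxy
      exact ⟨g, Prod.ext h1 h2⟩
  have hidx : (stabilizer G (a, b)).index = 2 ^ k * n := by
    rw [MulAction.index_stabilizer, horb, Set.ncard_coe_finset, Finset.offDiag_card,
      Finset.card_univ, Fintype.card_fin, ← Nat.sub_one_mul, hn, Nat.add_sub_cancel]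
  have hle : (stabilizer (R : Subgroup G) b).map (R : Subgroup G).subtype ≤ stabilizer G (a, b) := by
    rintro _ ⟨r, hr, rfl⟩
    exact Prod.ext (ha r r.2) hr
  have hd := Subgroup.index_dvd_of_le hle
  rw [hidx, Subgroup.index_map_subtype, MulAction.index_stabilizer] at hd
  have hd' : 2 ^ k ∣ (orbit (R : Subgroup G) b).ncard :=
    ((Nat.Coprime.pow_left k ((Nat.Prime.coprime_iff_not_dvd Nat.prime_two).mpr R.not_dvd_index))
      ).dvd_of_dvd_mul_right ((Dvd.intro n rfl).trans hd)
  have heq : orbit (R : Subgroup G) b = {a}ᶜ := by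
    refine Set.eq_of_subset_of_ncard_le hsub ?_
    have h1 : ({a}ᶜ : Set (Fin n)).ncard = 2 ^ k := by
      rw [Set.ncard_compl, Set.ncard_singleton, Nat.card_fin, hn, Nat.add_sub_cancel]
    rw [h1]
    exact Nat.le_of_dvd ((Set.ncard_pos).mpr ⟨b, mem_orbit_self b⟩) hd'
  obtain ⟨r, hr⟩ : c ∈ orbit (R : Subgroup G) b := heq ▸ hc
  exact ⟨r, r.2, hr⟩

/-- There is a perfect matching away from `a` all of whose double transpositions are in `R`. -/
theorem exists_matching (hA : alternatingGroup (Fin n) ≤ G) (hn : 5 ≤ n) (hodd : Odd n)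
    (R : Sylow 2 G) (a : Fin n) (ha : ∀ r ∈ (R : Subgroup G), r • a = a) :
    ∃ τ : Perm (Fin n), (∀ x, τ (τ x) = x) ∧ (∀ x, τ x = x ↔ x = a) ∧
      ∀ u v, u ≠ a → v ≠ a → v ≠ u → v ≠ τ u →
        swap u (τ u) * swap v (τ v) ∈ (R : Subgroup G).map G.subtype := by
  classical
  obtain ⟨m, hm⟩ := hodd
  obtain ⟨τ, hτ⟩ := (exists_with_cycleType_iff (Fin n) (m := Multiset.replicate m 2)).mpr
    ⟨by simp; omega, fun _ hh => (Multiset.eq_of_mem_replicate hh).ge⟩
  have hcard : τ.support.card = n - 1 := by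
    rw [← sum_cycleType, hτ]; simp; omega
  have hsq : ∀ x, τ (τ x) = x := fun x => by
    have h : τ ^ 2 = 1 := by
      rw [← orderOf_dvd_iff_pow_eq_one, ← lcm_cycleType, hτ]
      exact Multiset.lcm_dvd.mpr fun b hb => (Multiset.eq_of_mem_replicate hb).dvd
    rw [← Perm.mul_apply, ← pow_two, h, one_apply]
  let K : Subgroup G :=
    { carrier := {g | (∀ x : Fin n, g • x = x ∨ g • x = τ x) ∧ ∀ x : Fin n, g • τ x = τ (g • x)}
      one_mem' := ⟨fun x => Or.inl (one_smul _ x), fun x => by simp⟩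
      mul_mem' := by
        rintro g h ⟨g1, g2⟩ ⟨h1, h2⟩
        refine ⟨fun x => ?_, fun x => by rw [mul_smul, mul_smul, h2, g2]⟩
        rw [mul_smul]
        rcases h1 x with e | e
        · rw [e]; exact g1 x
        · rw [e, g2]
          rcases g1 x with e' | e' <;> rw [e']
          · exact Or.inr rfl
          · exact Or.inl (hsq x)
      inv_mem' := by
        rintro g ⟨g1, g2⟩
        have hgg : ∀ x : Fin n, g • g • x = x := fun x => by
          rcases g1 x with e | e
          · rw [e, e]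
          · rw [e, g2, e, hsq]
        have hi : ∀ x : Fin n, g⁻¹ • x = g • x := fun x => by rw [inv_smul_eq_iff, hgg]
        exact ⟨fun x => by rw [hi]; exact g1 x, fun x => by rw [hi, hi]; exact g2 x⟩ }
  have hK : IsPGroup 2 K := by
    rintro ⟨g, g1, g2⟩
    refine ⟨1, Subtype.ext (Subtype.ext (Equiv.ext fun x => ?_))⟩
    rw [pow_one, pow_two]
    change g • g • x = x
    rcases g1 x with e | e
    · rw [e, e]
    · rw [e, g2, e, hsq]
  obtain ⟨Q, hQ⟩ := hK.exists_le_sylow
  obtain ⟨h, hh⟩ := MulAction.exists_smul_eq G Q R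
  set τ' : Perm (Fin n) := (h : Perm (Fin n)) * τ * (h : Perm (Fin n))⁻¹ with hτ'
  have hsq' : ∀ x, τ' (τ' x) = x := fun x => by
    have : τ' * τ' = 1 := by
      rw [hτ']
      calc _ = (h : Perm (Fin n)) * (τ * τ) * (h : Perm (Fin n))⁻¹ := by group
        _ = 1 := by rw [show τ * τ = 1 from Equiv.ext hsq]; group
    exact Equiv.congr_fun this x
  have hmem : ∀ u v, τ' u ≠ u → τ' v ≠ v → v ≠ u → v ≠ τ' u →
      swap u (τ' u) * swap v (τ' v) ∈ (R : Subgroup G).map G.subtype := by
    intro u v hu hv hvu hvu'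
    obtain ⟨u₀, rfl⟩ := (h : Perm (Fin n)).surjective u
    obtain ⟨v₀, rfl⟩ := (h : Perm (Fin n)).surjective v
    have e : ∀ z, τ' ((h : Perm (Fin n)) z) = (h : Perm (Fin n)) (τ z) := fun z => by
      simp [hτ']
    rw [e] at hu hv hvu'
    rw [e, e]
    have hu0 : u₀ ≠ τ u₀ := fun h => hu (by rw [← h])
    have hv0 : v₀ ≠ τ v₀ := fun h => hv (by rw [← h])
    have d1 : v₀ ≠ u₀ := fun h => hvu (by rw [h])
    have d2 : v₀ ≠ τ u₀ := fun h => hvu' (by rw [h])
    have d3 : τ v₀ ≠ u₀ := fun h => d2 (by rw [← h, hsq])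
    have d4 : τ v₀ ≠ τ u₀ := fun h => d1 (τ.injective h)
    set z : Perm (Fin n) := swap u₀ (τ u₀) * swap v₀ (τ v₀) with hz
    have hzK : (⟨z, hA (swap_mul_swap_mem hu0 hv0)⟩ : G) ∈ K := by
      constructor
      · intro x
        change z x = x ∨ z x = τ x
        simp only [hz, Perm.mul_apply]
        rcases eq_or_ne x v₀ with rfl | x1
        · right; rw [swap_apply_left, swap_apply_of_ne_of_ne d3 d4]
        rcases eq_or_ne x (τ v₀) with rfl | x2
        · right; rw [swap_apply_right, swap_apply_of_ne_of_ne d1 d2, hsq]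
        rw [swap_apply_of_ne_of_ne x1 x2]
        rcases eq_or_ne x u₀ with rfl | x3
        · right; rw [swap_apply_left]
        rcases eq_or_ne x (τ u₀) with rfl | x4
        · right; rw [swap_apply_right, hsq]
        left; rw [swap_apply_of_ne_of_ne x3 x4]
      · intro x
        change z (τ x) = τ (z x)
        have hc : ∀ w, τ * swap w (τ w) * τ⁻¹ = swap w (τ w) := fun w => by
          rw [← swap_apply_apply, hsq, swap_comm]
        have : τ * z = z * τ := by
          calc τ * z = τ * swap u₀ (τ u₀) * τ⁻¹ * (τ * swap v₀ (τ v₀) * τ⁻¹) * τ := by rw [hz]; group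
            _ = _ := by rw [hc, hc]
        exact (Equiv.congr_fun this x).symm
    refine ⟨h * ⟨z, hA (swap_mul_swap_mem hu0 hv0)⟩ * h⁻¹, ?_, ?_⟩
    · rw [← hh, Sylow.coe_subgroup_smul]
      exact ⟨_, hQ hzK, by simp⟩
    · simp only [Subgroup.subtype_apply, Subgroup.coe_mul, Subgroup.coe_inv, hz]
      rw [swap_apply_apply, swap_apply_apply]
      group
  have hsupp : τ'.support.card = n - 1 := by
    rw [← sum_cycleType, hτ', cycleType_conj, sum_cycleType, hcard]
  have hfa : τ' a = a := by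
    by_contra hne
    obtain ⟨v, hv, hv'⟩ : ∃ v ∈ τ'.support, v ∉ ({a, τ' a} : Finset (Fin n)) := by
      refine Finset.exists_mem_notMem_of_card_lt_card ?_
      rw [hsupp]
      refine Finset.card_le_two.trans_lt ?_
      omega
    simp only [Finset.mem_insert, Finset.mem_singleton, not_or] at hv'
    obtain ⟨r, hr, hr'⟩ := hmem a v hne (mem_support.mp hv) hv'.1 hv'.2
    have := ha r hr
    change (r : Perm (Fin n)) a = a at this
    rw [Subgroup.subtype_apply] at hr'
    rw [hr', Perm.mul_apply, swap_apply_of_ne_of_ne (Ne.symm hv'.1), swap_apply_left] at this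
    · exact hne this
    · intro e
      exact hv'.2 (by rw [e, hsq'])
  have hsupp' : τ'.support = Finset.univ.erase a := by
    refine Finset.eq_of_subset_of_card_le (fun x hx => ?_) ?_
    · rw [Finset.mem_erase]
      exact ⟨fun e => mem_support.mp hx (e ▸ hfa), Finset.mem_univ x⟩
    · rw [Finset.card_erase_of_mem (Finset.mem_univ a), Finset.card_univ, Fintype.card_fin, hsupp]
  refine ⟨τ', hsq', fun x => ⟨fun hx => ?_, fun hx => hx ▸ hfa⟩, fun u v hu hv => ?_⟩
  · by_contra hne
    have : x ∈ τ'.support := hsupp' ▸ Finset.mem_erase.mpr ⟨hne, Finset.mem_univ x⟩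
    exact mem_support.mp this hx
  · have hu' : u ∈ τ'.support := hsupp' ▸ Finset.mem_erase.mpr ⟨hu, Finset.mem_univ u⟩
    have hv' : v ∈ τ'.support := hsupp' ▸ Finset.mem_erase.mpr ⟨hv, Finset.mem_univ v⟩
    exact hmem u v (mem_support.mp hu') (mem_support.mp hv')

/-- A transitive subgroup of `S₅` or `A₅` containing a Sylow 2-subgroup contains `A₅`. -/
theorem eq_top_five (G : Subgroup (Perm (Fin 5))) (hA : alternatingGroup (Fin 5) ≤ G)
    (R : Sylow 2 G) (M : Subgroup G) (hRM : (R : Subgroup G) ≤ M) (hM : IsPretransitive M (Fin 5)) :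
    M = ⊤ := by
  have h5 : 5 ∣ Nat.card M := by
    have := MulAction.index_stabilizer_of_transitive M (0 : Fin 5)
    rw [Nat.card_fin] at this
    have h := Subgroup.index_dvd_card (stabilizer M (0 : Fin 5))
    rwa [this] at h
  have hG : Nat.card G ∣ 120 := by
    have := Subgroup.card_subgroup_dvd_card G
    rwa [Nat.card_perm, Nat.card_fin] at this
  have hodd : ¬ 2 ∣ M.index := fun h => R.not_dvd_index (h.trans (Subgroup.index_dvd_of_le hRM))
  have h24 : M.index ∣ 24 := by
    have h := (Nat.mul_dvd_mul h5 dvd_rfl).trans ((M.card_mul_index).dvd.trans hG)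
    exact Nat.dvd_of_mul_dvd_mul_left (by norm_num) (show 5 * M.index ∣ 5 * 24 by simpa using h)
  have h3 : M.index ∣ 3 :=
    Nat.Coprime.dvd_of_dvd_mul_left
      (Nat.Coprime.pow_right 3 ((Nat.Prime.coprime_iff_not_dvd Nat.prime_two).mpr hodd).symm)
      (show M.index ∣ 2 ^ 3 * 3 by simpa using h24)
  refine eq_top_of_alternating_le G (by norm_num) hA M hodd fun x hx => ?_
  let φ : alternatingGroup (Fin 5) →* Perm (G ⧸ M) :=
    (MulAction.toPermHom G (G ⧸ M)).comp (Subgroup.inclusion hA)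
  have : IsSimpleGroup (alternatingGroup (Fin 5)) := alternatingGroup.isSimpleGroup (by simp)
  rcases IsSimpleGroup.eq_bot_or_eq_top_of_normal φ.ker inferInstance with h | h
  · exfalso
    have hc := Subgroup.card_dvd_of_injective φ ((MonoidHom.ker_eq_bot_iff φ).mp h)
    rw [Nat.card_perm, ← Subgroup.index] at hc
    have hle : M.index ≤ 3 := Nat.le_of_dvd (by norm_num) h3
    have h60 : Nat.card (alternatingGroup (Fin 5)) = 60 := by
      rw [nat_card_alternatingGroup, Nat.card_fin]; rfl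
    have := Nat.le_of_dvd (Nat.factorial_pos _) hc
    have := Nat.factorial_le hle
    rw [show Nat.factorial 3 = 6 from rfl] at this
    omega
  · have hx' : (⟨x, hx⟩ : alternatingGroup (Fin 5)) ∈ φ.ker := h ▸ Subgroup.mem_top _
    have := Equiv.congr_fun (MonoidHom.mem_ker.mp hx') (QuotientGroup.mk 1)
    change (QuotientGroup.mk ((⟨x, hA hx⟩ : G) * 1) : G ⧸ M) = QuotientGroup.mk 1 at this
    rw [QuotientGroup.eq, mul_one, mul_one] at this
    exact ⟨_, inv_mem_iff.mp this, rfl⟩

/-- The "if" direction. -/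
theorem unique_of_two_pow_add_one (hA : alternatingGroup (Fin n) ≤ G) {k : ℕ} (hk : 2 ≤ k)
    (hn : n = 2 ^ k + 1) (R : Sylow 2 G) :
    ∃! M : Subgroup G, IsCoatom M ∧ (R : Subgroup G) ≤ M := by
  classical
  have hk4 : 4 ≤ 2 ^ k := (Nat.pow_le_pow_right two_pos hk).trans' (by norm_num)
  have hn5 : 5 ≤ n := by omega
  have heven : 2 ∣ 2 ^ k := dvd_pow_self 2 (by omega)
  have hnodd : Odd n := by rw [Nat.odd_iff]; omega
  obtain ⟨a, ha⟩ := R.2.nonempty_fixed_point_of_prime_not_dvd_card (Fin n)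
    (by rw [Nat.card_fin]; omega)
  have haR : ∀ r ∈ (R : Subgroup G), r • a = a := fun r hr => ha ⟨r, hr⟩
  have hs : IsCoatom (stabilizer G ({a} : Set (Fin n))) :=
    isCoatom_stab G hn5 hA {a} (Set.singleton_nonempty a)
      (Set.nonempty_compl.mpr (fun h => by
        have := congrArg Set.ncard h
        rw [Set.ncard_singleton, Set.ncard_univ, Nat.card_fin] at this; omega))
      (by rw [Set.ncard_singleton]; omega)
  rw [stabilizer_singleton] at hs
  refine ⟨stabilizer G a, ⟨hs, haR⟩, ?_⟩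
  rintro M ⟨hM, hRM⟩
  by_contra hne
  have hnle : ¬ M ≤ stabilizer G a := fun h => hne ((hM.le_iff.mp h).resolve_left hs.1).symm
  obtain ⟨m, hm, hma⟩ := SetLike.not_le_iff_exists.mp hnle
  have horb : ∀ c, ∃ g ∈ M, g • a = c := fun c => by
    rcases eq_or_ne c a with rfl | hc
    · exact ⟨1, one_mem _, one_smul _ _⟩
    · obtain ⟨r, hr, hrc⟩ := sylow_transitive G hA hk hn R a haR (m • a) c hma hc
      exact ⟨r * m, mul_mem (hRM hr) hm, by rw [mul_smul, hrc]⟩
  have htr : IsPretransitive M (Fin n) :=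
    (isPretransitive_iff_base a).mpr fun c => by
      obtain ⟨g, hg, hgc⟩ := horb c
      exact ⟨⟨g, hg⟩, hgc⟩
  apply hM.1
  rcases eq_or_ne n 5 with rfl | hn5'
  · exact eq_top_five G hA R M hRM htr
  have hk9 : 9 ≤ n := by
    have : 3 ≤ k := by
      by_contra hk3
      have : k = 2 := by omega
      subst this
      omega
    have := Nat.pow_le_pow_right two_pos this
    omega
  set N := M.map G.subtype with hN
  have htrN : IsPretransitive N (Fin n) :=
    (isPretransitive_iff_base a).mpr fun c => by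
      obtain ⟨g, hg, hgc⟩ := horb c
      exact ⟨⟨(g : Perm (Fin n)), ⟨g, hg, rfl⟩⟩, hgc⟩
  have hprim : IsPreprimitive N (Fin n) := by
    refine IsPreprimitive.mk fun {B} hB => ?_
    rw [IsTrivialBlock, or_iff_not_imp_left]
    intro hB'
    rw [Set.not_subsingleton_iff] at hB'
    obtain ⟨b, hb⟩ := hB'.nonempty
    obtain ⟨g, hg⟩ := htrN.exists_smul_eq b a
    have hab : a ∈ g • B := ⟨b, hb, hg⟩
    obtain ⟨c, hc, hca⟩ := ((hB'.image (MulAction.injective g)) : (g • B).Nontrivial).exists_ne a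
    have huniv : g • B = Set.univ := Set.eq_univ_of_forall fun d => by
      rcases eq_or_ne d a with rfl | hd
      · exact hab
      obtain ⟨r, hr, hrd⟩ := sylow_transitive G hA hk hn R a haR c d hca hd
      let r' : N := ⟨(r : Perm (Fin n)), ⟨r, hRM hr, rfl⟩⟩
      have hra : r' • a = a := haR r hr
      have := (hB.translate g).smul_eq_of_mem hab (show r' • a ∈ g • B by rw [hra]; exact hab)
      rw [← this]
      exact ⟨c, hc, hrd⟩
    calc B = g⁻¹ • g • B := (inv_smul_smul g B).symm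
      _ = Set.univ := by rw [huniv, Set.smul_set_univ]
  obtain ⟨τ, hsq, hfix, hτ⟩ := exists_matching G hA hn5 hnodd R a haR
  have hτN : ∀ u v, u ≠ a → v ≠ a → v ≠ u → v ≠ τ u → swap u (τ u) * swap v (τ v) ∈ N :=
    fun u v h1 h2 h3 h4 => Subgroup.map_mono hRM (hτ u v h1 h2 h3 h4)
  have havoid : ∀ s : Finset (Fin n), s.card < n → ∃ x, x ∉ s := fun s hs' => by
    obtain ⟨x, -, hx⟩ := Finset.exists_mem_notMem_of_card_lt_card
      (s := s) (t := Finset.univ) (by simpa using hs')
    exact ⟨x, hx⟩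
  obtain ⟨p, hp⟩ := havoid {a} (by simp; omega)
  rw [Finset.mem_singleton] at hp
  obtain ⟨r, hr⟩ := havoid {a, p, τ p} (lt_of_le_of_lt Finset.card_le_three (by omega))
  simp only [Finset.mem_insert, Finset.mem_singleton, not_or] at hr
  have htp : τ p ≠ p := fun h => hp ((hfix p).mp h)
  have htr' : τ r ≠ r := fun h => hr.1 ((hfix r).mp h)
  have hx0 := hτN p r hp hr.1 hr.2.1 hr.2.2
  set x0 := swap p (τ p) * swap r (τ r) with hx0d
  have e1 : τ r ≠ p := fun h => hr.2.2 (by rw [← h, hsq])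
  have e2 : τ r ≠ τ p := fun h => hr.2.1 (τ.injective h)
  have x0q : x0 (τ p) ≠ τ p := by
    rw [hx0d, Perm.mul_apply, swap_apply_of_ne_of_ne (Ne.symm hr.2.2) e2.symm, swap_apply_right]
    exact htp.symm
  have x0r : x0 r ≠ r := by
    rw [hx0d, Perm.mul_apply, swap_apply_left, swap_apply_of_ne_of_ne e1 e2]
    exact htr'
  have x0s : x0 (τ r) ≠ τ r := by
    rw [hx0d, Perm.mul_apply, swap_apply_right, swap_apply_of_ne_of_ne hr.2.1 hr.2.2]
    exact htr'.symm
  have x0fix : ∀ z, z ≠ p → z ≠ τ p → z ≠ r → z ≠ τ r → x0 z = z := fun z z1 z2 z3 z4 => by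
    rw [hx0d, Perm.mul_apply, swap_apply_of_ne_of_ne z3 z4, swap_apply_of_ne_of_ne z1 z2]
  obtain ⟨m, hmp⟩ := htrN.exists_smul_eq p a
  set m' : Perm (Fin n) := (m : Perm (Fin n)) with hm'
  change m' p = a at hmp
  set y := m' * x0 * m'⁻¹ with hy
  have hyN : y ∈ N := mul_mem (mul_mem m.2 hx0) (inv_mem m.2)
  have hym : ∀ z, y (m' z) = m' (x0 z) := fun z => by simp [hy]
  set U : Finset (Fin n) := {m' (τ p), m' r, m' (τ r)} with hU
  have hUa : ∀ z ∈ U, z ≠ a := by
    intro z hz
    simp only [hU, Finset.mem_insert, Finset.mem_singleton] at hz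
    rw [← hmp]
    rcases hz with rfl | rfl | rfl <;> exact fun h => by
      have := m'.injective h
      first | exact htp this | exact hr.2.1 this | exact e1 this
  have hyU : ∀ z ∈ U, y z ≠ z := by
    intro z hz
    simp only [hU, Finset.mem_insert, Finset.mem_singleton] at hz
    rcases hz with rfl | rfl | rfl <;> rw [hym] <;> exact m'.injective.ne (by assumption)
  have hyfix : ∀ z, z ≠ a → z ∉ U → y z = z := by
    intro z hza hz
    obtain ⟨z₀, rfl⟩ := m'.surjective z
    simp only [hU, Finset.mem_insert, Finset.mem_singleton, not_or] at hz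
    rw [hym, x0fix z₀ (fun h => hza (h ▸ hmp)) (fun h => hz.1 (h ▸ rfl)) (fun h => hz.2.1 (h ▸ rfl))
      (fun h => hz.2.2 (h ▸ rfl))]
  have hUcard : U.card = 3 := by
    rw [hU, Finset.card_eq_three]
    exact ⟨_, _, _, m'.injective.ne (Ne.symm hr.2.2), m'.injective.ne e2.symm,
      m'.injective.ne htr'.symm, rfl⟩
  obtain ⟨u, huU, hu⟩ : ∃ u ∈ U, τ u ∉ U := by
    by_contra hall
    push_neg at hall
    obtain ⟨c, hc⟩ : ∃ c, c ∈ U := ⟨_, Finset.mem_insert_self _ _⟩
    have hmove : ∀ z ∈ U, τ z ≠ z := fun z hz h => hUa z hz ((hfix z).mp h)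
    obtain ⟨d, hd, hdn⟩ := Finset.exists_mem_notMem_of_card_lt_card
      (s := {c, τ c}) (t := U) (by rw [hUcard]; exact Finset.card_le_two.trans_lt (by norm_num))
    simp only [Finset.mem_insert, Finset.mem_singleton, not_or] at hdn
    have hsub : ({c, τ c, d, τ d} : Finset (Fin n)) ⊆ U := by
      simp only [Finset.insert_subset_iff, Finset.singleton_subset_iff]
      exact ⟨hc, hall c hc, hd, hall d hd⟩
    have h4 := Finset.card_le_card hsub
    rw [hUcard, Finset.card_insert_of_notMem, Finset.card_insert_of_notMem,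
      Finset.card_insert_of_notMem, Finset.card_singleton] at h4
    · omega
    · simp [(hmove d hd).symm]
    · simp only [Finset.mem_insert, Finset.mem_singleton, not_or]
      exact ⟨Ne.symm hdn.2, fun h => hdn.1 (τ.injective h).symm⟩
    · simp only [Finset.mem_insert, Finset.mem_singleton, not_or]
      exact ⟨(hmove c hc).symm, Ne.symm hdn.1, fun h => hdn.2 (by rw [h, hsq])⟩
  obtain ⟨v, hv⟩ := havoid (insert a (U ∪ U.image τ)) (by
    have h1 := Finset.card_insert_le a (U ∪ U.image τ)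
    have h2 := Finset.card_union_le U (U.image τ)
    have h3 := Finset.card_image_le (s := U) (f := τ)
    omega)
  simp only [Finset.mem_insert, Finset.mem_union, not_or] at hv
  have hv' : τ v ∉ U := fun h => hv.2.2 (Finset.mem_image.mpr ⟨τ v, h, hsq v⟩)
  have hvu : v ≠ u := fun h => hv.2.1 (h ▸ huU)
  have hvu' : v ≠ τ u := fun h => hv.2.2 (Finset.mem_image.mpr ⟨u, huU, h.symm⟩)
  have hzN := hτN u v (hUa u huU) hv.1 hvu hvu'
  set z := swap u (τ u) * swap v (τ v) with hz
  have hta : ∀ w, w ≠ a → τ w ≠ a := fun w hw h => hw (by rw [← hsq w, h, (hfix a).mpr rfl])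
  have hzu : z u ≠ u := by
    rw [hz, Perm.mul_apply, swap_apply_of_ne_of_ne hvu.symm (fun h => hvu' (by rw [h, hsq])),
      swap_apply_left]
    exact fun h => hUa u huU ((hfix u).mp h)
  refine eq_top_of_threeCycle G hn5 hA M (fun h => R.not_dvd_index (h.trans (Subgroup.index_dvd_of_le hRM)))
    hprim (mul_mem (mul_mem (mul_mem hzN hyN) (inv_mem hzN)) (inv_mem hyN)) ?_
  refine isThreeCycle_commutator hzu (hyU u huU) fun w hw => ?_
  by_cases hzw : z w = w
  · exact Or.inl hzw
  right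
  have hw3 : w = τ u ∨ w = v ∨ w = τ v := by
    by_contra hcon
    simp only [not_or] at hcon
    exact hzw (by rw [hz, Perm.mul_apply, swap_apply_of_ne_of_ne hcon.2.1 hcon.2.2,
      swap_apply_of_ne_of_ne hw hcon.1])
  rcases hw3 with rfl | rfl | rfl
  · exact hyfix _ (hta u (hUa u huU)) hu
  · exact hyfix _ hv.1 hv.2.1
  · exact hyfix _ (hta v hv.1) hv'

end Cfsg.Agent.SylowMax
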